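import Mathlib
import Groth.Prelude.Def_AlgSt5
import Groth.Prelude.Def_ChGrp
import Groth.Agent.Lib.Helper2.AlgSt.QuotFibOrbit

/-!
# Automorphisms of trivial objects of `[X/G]` are stabilizers (helper2)
-/

set_option autoImplicit false
set_option backward.isDefEq.respectTransparency false
set_option backward.isDefEq.respectTransparency.types false
set_option synthInstance.maxHeartbeats 400000
set_option maxHeartbeats 4000000
set_option linter.style.haveILetI false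
set_option linter.unusedSectionVars false
set_option linter.unusedVariables false
set_option linter.unusedSimpArgs false
set_option linter.unnecessarySimpa false

universe u
open CategoryTheory CategoryTheory.Limits AlgebraicGeometry
open MonoidalCategory CartesianMonoidalCategory MonObj GrpObj

namespace Groth.Agent.Helper2.Mass

variable {S : Scheme.{u}} {K : Precoverage Scheme.{u}} [K.HasIsos] {G : Over S} [GrpObj G]
  {X : Over S} {aX : AlgGrp.Action G X} {T : Over S}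

variable (aX T) in
/-- the action of the group of `T`-points of `G` on the `T`-points of `X` -/
@[reducible] noncomputable def ptAction : MulAction (T ⟶ G) (T ⟶ X) where
  smul g x := lift g x ≫ aX.act
  one_smul x := aX.lift_one_act x
  mul_smul g h x := aX.lift_mul_act g h x

theorem lift_leftMul {W : Over S} (a : W ⟶ G) (b : W ⟶ G ⊗ T) :
    lift a b ≫ (AlgSt.leftMul G T).act = lift (a * (b ≫ fst G T)) (b ≫ snd G T) := by
  simp only [AlgSt.leftMul, comp_lift, comp_mul, lift_fst, lift_snd, lift_fst_assoc,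
    lift_snd_assoc]

variable (K aX) in
/-- the trivial object as a plain object of `[X/G]` -/
noncomputable abbrev tObj (x : T ⟶ X) : AlgSt.QuotObj K G aX :=
  (AlgSt.quotMap K G aX).obj ⟨T, ⟨x⟩⟩

theorem usec_φ (x : T ⟶ X) :
    lift (1 : T ⟶ G) (𝟙 T) ≫ (G ◁ x) ≫ aX.act = x := by
  rw [← Category.assoc, lift_whiskerLeft, Category.id_comp]
  exact aX.lift_one_act x

section
variable {x x' : T ⟶ X} (h : tObj K aX x ⟶ tObj K aX x') (hb : h.base = 𝟙 T)

/-- the point of `G` attached to a morphism of trivial objects over the identity -/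
noncomputable def gOf : T ⟶ G :=
  lift (1 : T ⟶ G) (𝟙 T) ≫ (h.top : G ⊗ T ⟶ G ⊗ T) ≫ fst G T

include hb in
theorem top_snd : (h.top : G ⊗ T ⟶ G ⊗ T) ≫ snd G T = snd G T := by
  have h1 : (h.top : G ⊗ T ⟶ G ⊗ T) ≫ snd G T = snd G T ≫ h.base := h.cart.w
  rw [h1, hb]
  exact Category.comp_id _

include hb in
theorem usec_top :
    lift (1 : T ⟶ G) (𝟙 T) ≫ (h.top : G ⊗ T ⟶ G ⊗ T) = lift (gOf h) (𝟙 T) := by
  apply CartesianMonoidalCategory.hom_ext
  · rw [lift_fst, Category.assoc]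
    rfl
  · rw [lift_snd, Category.assoc, top_snd h hb, lift_snd]

include hb in
theorem top_eq :
    (h.top : G ⊗ T ⟶ G ⊗ T) = lift (fst G T * (snd G T ≫ gOf h)) (snd G T) := by
  have heq : (AlgSt.leftMul G T).act ≫ (h.top : G ⊗ T ⟶ G ⊗ T) =
      (G ◁ (h.top : G ⊗ T ⟶ G ⊗ T)) ≫ (AlgSt.leftMul G T).act := h.eqv
  obtain ⟨u, hu⟩ : ∃ u : G ⊗ T ⟶ G ⊗ (G ⊗ T),
      u = lift (fst G T) (snd G T ≫ lift (1 : T ⟶ G) (𝟙 T)) := ⟨_, rfl⟩
  have hu1 : u ≫ (AlgSt.leftMul G T).act = 𝟙 _ := by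
    rw [hu, lift_leftMul]
    apply CartesianMonoidalCategory.hom_ext
    · rw [lift_fst, Category.id_comp, Category.assoc, lift_fst, comp_one, _root_.mul_one]
    · rw [lift_snd, Category.id_comp, Category.assoc, lift_snd, Category.comp_id]
  have h1 : (h.top : G ⊗ T ⟶ G ⊗ T) =
      u ≫ (G ◁ (h.top : G ⊗ T ⟶ G ⊗ T)) ≫ (AlgSt.leftMul G T).act := by
    rw [← heq, ← Category.assoc, hu1, Category.id_comp]
  have e3 : u ≫ (G ◁ (h.top : G ⊗ T ⟶ G ⊗ T)) =
      lift (fst G T) (snd G T ≫ lift (gOf h) (𝟙 T)) := by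
    rw [hu, lift_whiskerLeft, Category.assoc, usec_top h hb]
  refine h1.trans ?_
  rw [← Category.assoc, e3, lift_leftMul]
  apply CartesianMonoidalCategory.hom_ext
  · rw [lift_fst, lift_fst, Category.assoc, lift_fst]
  · rw [lift_snd, lift_snd, Category.assoc, lift_snd, Category.comp_id]

include hb in
theorem gOf_smul : lift (gOf h) x' ≫ aX.act = x := by
  have hw : (h.top : G ⊗ T ⟶ G ⊗ T) ≫ (G ◁ x') ≫ aX.act = (G ◁ x) ≫ aX.act := h.wφ
  have e2 : lift (1 : T ⟶ G) (𝟙 T) ≫ (h.top : G ⊗ T ⟶ G ⊗ T) ≫ (G ◁ x') ≫ aX.act =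
      lift (gOf h) x' ≫ aX.act := by
    rw [← Category.assoc, usec_top h hb, ← Category.assoc, lift_whiskerLeft, Category.id_comp]
  exact e2.symm.trans ((congrArg (fun t => lift (1 : T ⟶ G) (𝟙 T) ≫ t) hw).trans (usec_φ x))

end

variable (K) in
/-- right multiplication by a point of the stabilizer, as an endomorphism of the trivial object -/
noncomputable def rmul (x : T ⟶ X) (g : T ⟶ G) (hg : lift g x ≫ aX.act = x) :
    tObj K aX x ⟶ tObj K aX x :=
  have hs : lift g (𝟙 T) ≫ (tObj K aX x).π = 𝟙 _ := lift_snd _ _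
  { base := 𝟙 T
    top := (G ◁ lift g (𝟙 T)) ≫ (AlgSt.leftMul G T).act
    eqv := (QuotK.ofSection (tObj K aX x) (lift g (𝟙 T)) hs).eqv
    cart := (QuotK.ofSection (tObj K aX x) (lift g (𝟙 T)) hs).cart
    wφ := by
      have h1 : ((G ◁ lift g (𝟙 T)) ≫ (AlgSt.leftMul G T).act) ≫ (G ◁ x) ≫ aX.act =
          (G ◁ (lift g (𝟙 T) ≫ (G ◁ x) ≫ aX.act)) ≫ aX.act :=
        (QuotK.ofSection (tObj K aX x) (lift g (𝟙 T)) hs).wφ
      have h2 : lift g (𝟙 T) ≫ (G ◁ x) ≫ aX.act = x := by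
        rw [← Category.assoc, lift_whiskerLeft, Category.id_comp, hg]
      rw [h2] at h1
      exact h1 }

theorem gOf_rmul (x : T ⟶ X) (g : T ⟶ G) (hg : lift g x ≫ aX.act = x) :
    gOf (rmul K x g hg) = g := by
  have e : lift (1 : T ⟶ G) (𝟙 T) ≫ (G ◁ lift g (𝟙 T)) ≫ (AlgSt.leftMul G T).act =
      lift ((1 : T ⟶ G) * g) (𝟙 T) := by
    rw [← Category.assoc, lift_whiskerLeft, Category.id_comp, lift_leftMul, lift_fst, lift_snd]
  show lift (1 : T ⟶ G) (𝟙 T) ≫ ((G ◁ lift g (𝟙 T)) ≫ (AlgSt.leftMul G T).act) ≫ fst G T = g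
  rw [← Category.assoc, e, lift_fst, _root_.one_mul]

theorem base_eq_id (x : T ⟶ X) (α : QuotK.triv K aX x ⟶ QuotK.triv K aX x) :
    α.1.base = 𝟙 T := by
  have h1 : α.1.base =
      eqToHom (QuotK.triv K aX x).2 ≫ 𝟙 T ≫ eqToHom (QuotK.triv K aX x).2.symm :=
    @IsHomLift.fac' _ _ _ _ (AlgSt.QuotSt K G aX).p _ _ _ _ (𝟙 T) α.1 α.2
  rw [h1]
  simp
  rfl

variable (K) in
theorem exists_aut_of_hom (x : T ⟶ X) (h : tObj K aX x ⟶ tObj K aX x) (hb : h.base = 𝟙 T) :
    ∃ α : Aut (QuotK.triv K aX x), α.hom.1 = h := by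
  haveI hb' : (AlgSt.QuotSt K G aX).p.IsHomLift (𝟙 T) h := by
    have h0 : (AlgSt.QuotSt K G aX).p.IsHomLift ((AlgSt.QuotSt K G aX).p.map h) h :=
      inferInstance
    have e : (AlgSt.QuotSt K G aX).p.map h = 𝟙 T := hb
    rw [e] at h0
    exact h0
  haveI : IsIso h.base := by rw [hb]; exact IsIso.id _
  haveI : IsIso h := QuotK.isIso_of_isIso_base h
  exact ⟨⟨⟨h, hb'⟩, ⟨inv h, inferInstance⟩, Subtype.ext (IsIso.hom_inv_id h),
    Subtype.ext (IsIso.inv_hom_id h)⟩, rfl⟩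

variable (K) in
theorem nonempty_autEquiv (x : T ⟶ X) :
    Nonempty (Aut (QuotK.triv K aX x) ≃ {g : T ⟶ G // lift g x ≫ aX.act = x}) := by
  let Ψ : Aut (QuotK.triv K aX x) → {g : T ⟶ G // lift g x ≫ aX.act = x} :=
    fun α => ⟨gOf (K := K) (x := x) (x' := x) α.hom.1,
      gOf_smul (K := K) (x := x) (x' := x) α.hom.1 (base_eq_id x α.hom)⟩
  have hinj : Function.Injective Ψ := by
    intro α β hαβ
    have h1 : gOf (K := K) (x := x) (x' := x) α.hom.1 =
        gOf (K := K) (x := x) (x' := x) β.hom.1 := congrArg Subtype.val hαβ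
    apply Aut.ext
    apply Subtype.ext
    apply AlgSt.QuotObj.hom_ext
    · rw [base_eq_id x α.hom, base_eq_id x β.hom]
    · have ha := top_eq (K := K) (x := x) (x' := x) α.hom.1 (base_eq_id x α.hom)
      have hb := top_eq (K := K) (x := x) (x' := x) β.hom.1 (base_eq_id x β.hom)
      rw [h1] at ha
      exact ha.trans hb.symm
  have hsurj : Function.Surjective Ψ := by
    rintro ⟨g, hg⟩
    obtain ⟨α, hα⟩ := exists_aut_of_hom K x (rmul K x g hg) rfl
    refine ⟨α, Subtype.ext ?_⟩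
    show gOf (K := K) (x := x) (x' := x) α.hom.1 = g
    rw [hα]
    exact gOf_rmul x g hg
  exact ⟨Equiv.ofBijective Ψ ⟨hinj, hsurj⟩⟩

variable (K) in
theorem triv_iso_iff (x y : T ⟶ X) :
    Nonempty (QuotK.triv K aX x ≅ QuotK.triv K aX y) ↔
      ∃ g : T ⟶ G, lift g x ≫ aX.act = y := by
  have hφx : lift (1 : T ⟶ G) (𝟙 T) ≫ (QuotK.triv K aX x).1.φ = x := usec_φ x
  have hφy : lift (1 : T ⟶ G) (𝟙 T) ≫ (QuotK.triv K aX y).1.φ = y := usec_φ y
  have key := QuotK.iso_iff_translate (QuotK.triv K aX x) (QuotK.triv K aX y)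
    (lift (1 : T ⟶ G) (𝟙 T)) (lift (1 : T ⟶ G) (𝟙 T)) (lift_snd _ _) (lift_snd _ _)
  constructor
  · intro hn
    obtain ⟨g, hg⟩ := key.1 hn
    exact ⟨g, (congrArg (fun z => lift g z ≫ aX.act) hφx).symm.trans (hg.trans hφy)⟩
  · rintro ⟨g, hg⟩
    exact key.2 ⟨g, (congrArg (fun z => lift g z ≫ aX.act) hφx).trans (hg.trans hφy.symm)⟩

end Groth.Agent.Helper2.Mass
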