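import Mathlib

/-!
# The orbit-counting form of the mass formula (helper2)
-/

set_option autoImplicit false
set_option linter.style.haveILetI false
set_option linter.unusedVariables false
set_option linter.unusedSimpArgs false

namespace Groth.Agent.Helper2.Mass

theorem mass_formula {Gp Xp C : Type*} [Group Gp] [MulAction Gp Xp] [Finite Gp] [Finite Xp]
    (cl : Xp → C) (hsurj : Function.Surjective cl)
    (hcl : ∀ x y, cl x = cl y ↔ ∃ g : Gp, g • x = y)
    (m : C → ℕ) (hm : ∀ x, m (cl x) = Nat.card (MulAction.stabilizer Gp x)) :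
    ∑ᶠ c : C, ((m c : ℚ))⁻¹ = (Nat.card Xp : ℚ) / (Nat.card Gp : ℚ) := by
  classical
  haveI : Finite C := Finite.of_surjective cl hsurj
  haveI := Fintype.ofFinite C
  haveI := Fintype.ofFinite Xp
  haveI := Fintype.ofFinite Gp
  rw [finsum_eq_sum_of_fintype]
  have h1 : Fintype.card Xp = ∑ c : C, (Finset.univ.filter (fun x => cl x = c)).card := by
    rw [← Finset.card_univ]
    exact Finset.card_eq_sum_card_fiberwise (fun x _ => Finset.mem_coe.2 (Finset.mem_univ _))
  have h2 : ∀ c : C, (Finset.univ.filter (fun x => cl x = c)).card * m c = Fintype.card Gp := by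
    intro c
    obtain ⟨x, rfl⟩ := hsurj c
    rw [hm]
    have e1 : (Finset.univ.filter (fun y => cl y = cl x)).card =
        Nat.card (MulAction.orbit Gp x) := by
      rw [← Fintype.card_subtype, ← Nat.card_eq_fintype_card]
      refine Nat.card_congr (Equiv.subtypeEquivRight (fun y => ?_))
      rw [MulAction.mem_orbit_iff, eq_comm, hcl]
    rw [e1, Nat.card_coe_set_eq, ← MulAction.index_stabilizer, mul_comm,
      Subgroup.card_mul_index, Nat.card_eq_fintype_card]
  have hG : (Fintype.card Gp : ℚ) ≠ 0 := by exact_mod_cast Fintype.card_ne_zero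
  have h3 : ∀ c : C, ((m c : ℚ))⁻¹ =
      ((Finset.univ.filter (fun x => cl x = c)).card : ℚ) / (Fintype.card Gp : ℚ) := by
    intro c
    have hq : ((Finset.univ.filter (fun x => cl x = c)).card : ℚ) * (m c : ℚ) =
        (Fintype.card Gp : ℚ) := by exact_mod_cast h2 c
    have hm0 : (m c : ℚ) ≠ 0 := by
      intro h0
      rw [h0, mul_zero] at hq
      exact hG hq.symm
    have hc0 : ((Finset.univ.filter (fun x => cl x = c)).card : ℚ) ≠ 0 := by
      intro h0
      rw [h0, zero_mul] at hq
      exact hG hq.symm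
    rw [← hq]
    field_simp
  rw [Finset.sum_congr rfl (fun c _ => h3 c), ← Finset.sum_div, Nat.card_eq_fintype_card,
    Nat.card_eq_fintype_card, h1]
  push_cast
  rfl

end Groth.Agent.Helper2.Mass
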