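import Mathlib
import Groth.Prelude.Def_AlgSt5
import Groth.Prelude.Def_ChGrp
import Groth.Agent.Lib.Helper2.Lang.Torsor2
import Groth.Agent.Lib.Helper6.FFPts.Finite
import Groth.Agent.Lib.Helper2.AlgSt.QuotFibOrbit

/-!
# Rational points over a finite field: finiteness, and sections of fppf torsors under smooth
connected affine groups (helper2)
-/

set_option autoImplicit false
set_option backward.isDefEq.respectTransparency false
set_option backward.isDefEq.respectTransparency.types false
set_option synthInstance.maxHeartbeats 400000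
set_option maxHeartbeats 4000000
set_option linter.style.haveILetI false
set_option linter.unusedSectionVars false
set_option linter.unusedVariables false
set_option linter.unusedSimpArgs false
set_option linter.unnecessarySimpa false

universe u
open CategoryTheory CategoryTheory.Limits AlgebraicGeometry
open MonoidalCategory CartesianMonoidalCategory MonObj GrpObj

namespace Groth.Agent.Helper2.Mass

variable {F : Type u} [Field F] [Finite F]

theorem finite_pts (Y : Over (Spec (CommRingCat.of F))) [LocallyOfFiniteType Y.hom]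
    [QuasiCompact Y.hom] :
    Finite (Over.mk (𝟙 (Spec (CommRingCat.of F))) ⟶ Y) := by
  haveI := Groth.Agent.Lib.Helper6.FFPts.finite_pts Y.hom F
  have hid : Spec.map (CommRingCat.ofHom (algebraMap F F)) = 𝟙 (Spec (CommRingCat.of F)) := by
    rw [Algebra.algebraMap_self, CommRingCat.ofHom_id, Spec.map_id]
  let Φ : (Over.mk (𝟙 (Spec (CommRingCat.of F))) ⟶ Y) →
      Groth.Agent.Lib.Helper6.FFPts.Pts Y.hom F :=
    fun x => ⟨x.left, by rw [hid]; exact Over.w x⟩
  refine Finite.of_injective Φ ?_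
  intro a b h
  apply Over.OverMorphism.ext
  exact congrArg Subtype.val h

theorem exists_section_of_fppf
    {X G : Over (Spec (CommRingCat.of F))} [GrpObj G] {aX : AlgGrp.Action G X}
    [IsAffine G.left] [Smooth G.hom] [ConnectedSpace ↥G.left]
    (A : AlgSt.QuotObj Scheme.fppfPrecoverage G aX)
    (hA : A.base = Over.mk (𝟙 (Spec (CommRingCat.of F)))) :
    ∃ s : A.base ⟶ A.P, s ≫ A.π = 𝟙 _ := by
  obtain ⟨base, P, act, π, cart, loc, φ, eqv⟩ := A
  dsimp only at hA
  subst hA
  dsimp only
  obtain rfl : π = toUnit P := toUnit_unique _ _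
  obtain ⟨R, hR, hsec⟩ := loc
  obtain ⟨κ, U, j, rfl⟩ := R.exists_eq_ofArrows
  rw [Scheme.fppfPrecoverage, Scheme.ofArrows_mem_precoverage_iff] at hR
  obtain ⟨hsurj, hP⟩ := hR
  obtain ⟨i, u, hu⟩ := hsurj (Nonempty.some (inferInstance : Nonempty ↥(Spec (CommRingCat.of F))))
  obtain ⟨ji, hji⟩ : ∃ ji : U i ⟶ Spec (CommRingCat.of F), ji = j i := ⟨_, rfl⟩
  haveI : LocallyOfFinitePresentation ji := hji ▸ (hP i).2
  haveI : JacobsonSpace (U i) := LocallyOfFiniteType.jacobsonSpace ji
  obtain ⟨z, -, hzc⟩ := nonempty_inter_closedPoints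
    (⟨u, trivial⟩ : (Set.univ : Set (U i)).Nonempty) isOpen_univ.isLocallyClosed
  obtain ⟨x₁, hx₁, -⟩ := Groth.Agent.Lib.Helper4.AlgClosedPts1.exists_pt_of_closedPoint F
    (AlgebraicClosure F) (U i) ji z hzc
  obtain ⟨s, hs⟩ := hsec (j i) (Presieve.ofArrows.mk i)
  have hs' : s ≫ (toUnit P).left = j i := hs
  have hw : (toUnit P).left ≫ 𝟙 _ = P.hom := Over.w (toUnit P)
  let x : Lang.pt F (AlgebraicClosure F) ⟶ P := Over.homMk (x₁ ≫ s) (by
    show (x₁ ≫ s) ≫ P.hom = Spec.map _
    rw [← hw, Category.comp_id, Category.assoc, hs', ← hji, hx₁])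
  have h2 : IsPullback (fst P P) (snd P P) (toUnit P) (toUnit P) := AlgSt.isPullback_fst_snd P P
  have hiso : IsIso (lift act.act (snd G P)) := by
    have he : lift act.act (snd G P) = (cart.isoIsPullback _ _ h2).hom := by
      apply CartesianMonoidalCategory.hom_ext
      · rw [lift_fst, IsPullback.isoIsPullback_hom_fst]
      · rw [lift_snd, IsPullback.isoIsPullback_hom_snd]
    rw [he]
    infer_instance
  obtain ⟨t⟩ := Lang.torsor_trivial_of_pt F G P act hiso x
  exact ⟨t, toUnit_unique _ _⟩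

theorem exists_section_fiber
    {X G : Over (Spec (CommRingCat.of F))} [GrpObj G] {aX : AlgGrp.Action G X}
    [IsAffine G.left] [Smooth G.hom] [ConnectedSpace ↥G.left]
    (ξ : (AlgSt.QuotSt Scheme.fppfPrecoverage G aX).p.Fiber
      (Over.mk (𝟙 (Spec (CommRingCat.of F))))) :
    ∃ t : Over.mk (𝟙 (Spec (CommRingCat.of F))) ⟶ ξ.1.P, t ≫ ξ.1.π = eqToHom ξ.2.symm := by
  obtain ⟨A, hA⟩ := ξ
  obtain ⟨s, hs⟩ := exists_section_of_fppf A hA
  refine ⟨eqToHom hA.symm ≫ s, ?_⟩
  show (eqToHom hA.symm ≫ s) ≫ A.π = eqToHom hA.symm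
  rw [Category.assoc, hs]
  exact Category.comp_id _

end Groth.Agent.Helper2.Mass
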