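import Mathlib
import Groth.Prelude.Def_AlgSt5
import Groth.Agent.Lib.Helper2.Mass.Count
import Groth.Agent.Lib.Helper2.Mass.Pts
import Groth.Agent.Lib.Helper2.Mass.Aut

/-!
# The mass formula for `[X/G](F)` over a finite field (helper2)
-/

set_option autoImplicit false
set_option backward.isDefEq.respectTransparency false
set_option backward.isDefEq.respectTransparency.types false
set_option synthInstance.maxHeartbeats 400000
set_option maxHeartbeats 4000000
set_option linter.style.haveILetI false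
set_option linter.unusedSectionVars false
set_option linter.unusedVariables false
set_option linter.unusedSimpArgs false
set_option linter.unnecessarySimpa false

universe u
open CategoryTheory CategoryTheory.Limits AlgebraicGeometry
open MonoidalCategory CartesianMonoidalCategory MonObj GrpObj

namespace Groth.Agent.Helper2.Mass

theorem main
    {F : Type u} [Field F] [Finite F]
    (X G : Over (Spec (CommRingCat.of F))) [GrpObj G] (aX : AlgGrp.Action G X)
    [Smooth X.hom] [QuasiCompact X.hom] [Smooth G.hom] [IsAffineHom G.hom] [ConnectedSpace ↥G.left] :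
    Finite (Quotient (isIsomorphicSetoid ((AlgSt.QuotSt Scheme.fppfPrecoverage G aX).p.Fiber (Over.mk (𝟙 (Spec (CommRingCat.of F))))))) ∧
      (∀ ξ : ((AlgSt.QuotSt Scheme.fppfPrecoverage G aX).p.Fiber (Over.mk (𝟙 (Spec (CommRingCat.of F))))), Finite (Aut ξ)) ∧
      ∑ᶠ c : Quotient (isIsomorphicSetoid ((AlgSt.QuotSt Scheme.fppfPrecoverage G aX).p.Fiber (Over.mk (𝟙 (Spec (CommRingCat.of F)))))), ((Nat.card (Aut c.out) : ℚ))⁻¹ =
        (Nat.card (Over.mk (𝟙 (Spec (CommRingCat.of F))) ⟶ X) : ℚ) /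
          (Nat.card (Over.mk (𝟙 (Spec (CommRingCat.of F))) ⟶ G) : ℚ) := by
  classical
  haveI : IsAffine G.left := isAffine_of_isAffineHom G.hom
  haveI hGfin : Finite (Over.mk (𝟙 (Spec (CommRingCat.of F))) ⟶ G) :=
    Groth.Agent.Helper2.Mass.finite_pts G
  haveI hXfin : Finite (Over.mk (𝟙 (Spec (CommRingCat.of F))) ⟶ X) :=
    Groth.Agent.Helper2.Mass.finite_pts X
  letI act : MulAction (Over.mk (𝟙 (Spec (CommRingCat.of F))) ⟶ G)
      (Over.mk (𝟙 (Spec (CommRingCat.of F))) ⟶ X) :=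
    Groth.Agent.Helper2.Mass.ptAction aX (Over.mk (𝟙 (Spec (CommRingCat.of F))))
  obtain ⟨cl, hcl0⟩ : ∃ cl : (Over.mk (𝟙 (Spec (CommRingCat.of F))) ⟶ X) →
      Quotient (isIsomorphicSetoid ((AlgSt.QuotSt Scheme.fppfPrecoverage G aX).p.Fiber
        (Over.mk (𝟙 (Spec (CommRingCat.of F)))))),
      ∀ x, cl x = Quotient.mk _
        (Groth.Agent.Helper2.QuotK.triv Scheme.fppfPrecoverage aX x) := ⟨_, fun _ => rfl⟩
  have hsurj : Function.Surjective cl := by
    intro c
    obtain ⟨ξ, rfl⟩ := Quotient.exists_rep c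
    obtain ⟨t, ht⟩ := Groth.Agent.Helper2.Mass.exists_section_fiber ξ
    obtain ⟨i⟩ := Groth.Agent.Helper2.QuotK.triv_iso_of_section ξ t ht
    refine ⟨t ≫ ξ.1.φ, ?_⟩
    rw [hcl0]
    exact Quotient.sound ⟨i⟩
  have hcl : ∀ x y, cl x = cl y ↔
      ∃ g : (Over.mk (𝟙 (Spec (CommRingCat.of F))) ⟶ G), g • x = y := by
    intro x y
    rw [hcl0, hcl0, Quotient.eq]
    exact Groth.Agent.Helper2.Mass.triv_iso_iff Scheme.fppfPrecoverage x y
  have hstab : ∀ x : (Over.mk (𝟙 (Spec (CommRingCat.of F))) ⟶ X),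
      Nonempty (Aut (Groth.Agent.Helper2.QuotK.triv Scheme.fppfPrecoverage aX x) ≃
        MulAction.stabilizer (Over.mk (𝟙 (Spec (CommRingCat.of F))) ⟶ G) x) := by
    intro x
    obtain ⟨e⟩ := Groth.Agent.Helper2.Mass.nonempty_autEquiv Scheme.fppfPrecoverage (aX := aX) x
    exact ⟨e.trans (Equiv.subtypeEquivRight (fun g => Iff.rfl))⟩
  have hm : ∀ x, (fun c : Quotient (isIsomorphicSetoid
      ((AlgSt.QuotSt Scheme.fppfPrecoverage G aX).p.Fiber
        (Over.mk (𝟙 (Spec (CommRingCat.of F)))))) => Nat.card (Aut c.out)) (cl x) =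
      Nat.card (MulAction.stabilizer (Over.mk (𝟙 (Spec (CommRingCat.of F))) ⟶ G) x) := by
    intro x
    obtain ⟨e⟩ := hstab x
    have h1 : Nonempty ((cl x).out ≅
        Groth.Agent.Helper2.QuotK.triv Scheme.fppfPrecoverage aX x) := by
      rw [hcl0]
      exact Quotient.mk_out (s := isIsomorphicSetoid _)
        (Groth.Agent.Helper2.QuotK.triv Scheme.fppfPrecoverage aX x)
    obtain ⟨i⟩ := h1
    exact (Nat.card_congr (Iso.conjAut i).toEquiv).trans (Nat.card_congr e)
  refine ⟨Finite.of_surjective cl hsurj, ?_, ?_⟩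
  · intro ξ
    obtain ⟨t, ht⟩ := Groth.Agent.Helper2.Mass.exists_section_fiber ξ
    obtain ⟨i⟩ := Groth.Agent.Helper2.QuotK.triv_iso_of_section ξ t ht
    obtain ⟨e⟩ := hstab (t ≫ ξ.1.φ)
    exact Finite.of_equiv _ ((Iso.conjAut i).toEquiv.symm.trans e).symm
  · exact Groth.Agent.Helper2.Mass.mass_formula cl hsurj hcl _ hm

end Groth.Agent.Helper2.Mass
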